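import Cfsg.Agent.H194.Ore.Diag

/-!
Diagonalisation of matrices with separable characteristic polynomial (S2465).

* `Sp N X` : `X ^ N = 1`, the characteristic polynomial is separable and `1` is not an eigenvalue;
* `Sp.diag` : diagonalisation over a field in which the characteristic polynomial splits.
-/

set_option autoImplicit false

namespace Cfsg.Agent.H928.Pw.Dg

open Polynomial Matrix
open Cfsg.Agent.H194.Ore (exists_diag)

universe u v

variable {F : Type u} [Field F] {n : ℕ}

/-- the good elements -/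
structure Sp (N : ℕ) (X : SpecialLinearGroup (Fin n) F) : Prop where
  pow : X ^ N = 1
  sep : (X : Matrix (Fin n) (Fin n) F).charpoly.Separable
  ne : (X : Matrix (Fin n) (Fin n) F).charpoly.eval 1 ≠ 0

/-- the roots of a separable polynomial which splits -/
theorem exists_lam {K : Type v} [Field K] {f : K[X]} (hs : f.Splits) (hsep : f.Separable) (hm : f.Monic)
    (hn : f.natDegree = n) : ∃ lam : Fin n → K, Function.Injective lam ∧ f = ∏ i, (X - C (lam i)) := by
  have hnd : f.roots.Nodup := nodup_roots hsep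
  have hcard : f.roots.card = n := by
    rw [← hn]
    exact (Splits.natDegree_eq_card_roots hs).symm
  obtain ⟨l, hl⟩ := Quot.exists_rep f.roots
  have hl' : f.roots = (l : Multiset _) := hl.symm
  rw [hl', Multiset.coe_nodup] at hnd
  rw [hl', Multiset.coe_card] at hcard
  subst hcard
  refine ⟨l.get, List.nodup_iff_injective_get.1 hnd, ?_⟩
  have h1 := Splits.eq_prod_roots_of_monic hs hm
  rw [hl', Multiset.map_coe, Multiset.prod_coe] at h1
  rw [h1, ← List.prod_ofFn]
  congr 1
  conv_lhs => rw [← List.ofFn_get l]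
  rw [List.map_ofFn]
  rfl

/-- **Diagonalisation.** -/
theorem Sp.diag {N : ℕ} {X : SpecialLinearGroup (Fin n) F} (h : Sp N X) {K : Type v} [Field K] (ι : F →+* K)
    (hs : ((X : Matrix (Fin n) (Fin n) F).charpoly.map ι).Splits) (hn : 0 < n) :
    ∃ (lam : Fin n → K) (g : GL (Fin n) K), (X : Matrix (Fin n) (Fin n) F).map ι =
      (g : Matrix (Fin n) (Fin n) K) * diagonal lam * ((g⁻¹ : GL (Fin n) K) : Matrix (Fin n) (Fin n) K) ∧
      (∏ i, lam i = 1) ∧ (∀ i, lam i ^ N = 1) ∧ ∀ i, lam i ≠ 1 := by
  set M : Matrix (Fin n) (Fin n) K := (X : Matrix (Fin n) (Fin n) F).map ι with hM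
  have h0 : M.charpoly = (X : Matrix (Fin n) (Fin n) F).charpoly.map ι := Matrix.charpoly_map _ _
  have hdeg : ((X : Matrix (Fin n) (Fin n) F).charpoly.map ι).natDegree = n := by
    rw [(Matrix.charpoly_monic _).natDegree_map, Matrix.charpoly_natDegree_eq_dim, Fintype.card_fin]
  obtain ⟨lam, h1, h2⟩ := exists_lam hs h.sep.map ((Matrix.charpoly_monic _).map _) hdeg
  obtain ⟨P, hP⟩ := exists_diag (M := M) h1 (by rw [h0, h2]) hn
  have hPP : (P : Matrix (Fin n) (Fin n) K) * ((P⁻¹ : SpecialLinearGroup (Fin n) K) : Matrix (Fin n) (Fin n) K) = 1 := by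
    have := congrArg Subtype.val (mul_inv_cancel P)
    exact this
  have hPP' : ((P⁻¹ : SpecialLinearGroup (Fin n) K) : Matrix (Fin n) (Fin n) K) * (P : Matrix (Fin n) (Fin n) K) = 1 := by
    have := congrArg Subtype.val (inv_mul_cancel P)
    exact this
  have e1 : M = (P : Matrix (Fin n) (Fin n) K) * diagonal lam *
      ((P⁻¹ : SpecialLinearGroup (Fin n) K) : Matrix (Fin n) (Fin n) K) := by
    rw [← hP, Matrix.mul_assoc, hPP, Matrix.mul_one]
  refine ⟨lam, (P : GL (Fin n) K), e1, ?_, fun i => ?_, fun i hi => ?_⟩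
  · have h3 := congrArg Matrix.det hP
    have h4 : M.det = 1 := (SpecialLinearGroup.map ι X).2
    rw [det_mul, det_mul, h4, det_diagonal, P.2, one_mul, one_mul] at h3
    exact h3.symm
  · have h3 : ∀ k : ℕ, M ^ k * (P : Matrix (Fin n) (Fin n) K) = (P : Matrix (Fin n) (Fin n) K) * diagonal lam ^ k := by
      intro k
      induction k with
      | zero => simp
      | succ k ih => rw [pow_succ, Matrix.mul_assoc, hP, ← Matrix.mul_assoc, ih, Matrix.mul_assoc, ← pow_succ]
    have h4 : M ^ N = 1 := by
      have := congrArg Subtype.val (congrArg (SpecialLinearGroup.map ι) h.pow)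
      rw [map_pow, map_one] at this
      exact this
    have h5 := h3 N
    rw [h4, Matrix.one_mul] at h5
    have h6 : diagonal lam ^ N = 1 := by
      calc diagonal lam ^ N = ((P⁻¹ : SpecialLinearGroup (Fin n) K) : Matrix (Fin n) (Fin n) K) *
            ((P : Matrix (Fin n) (Fin n) K) * diagonal lam ^ N) := by rw [← Matrix.mul_assoc, hPP', Matrix.one_mul]
        _ = 1 := by rw [← h5, hPP']
    rw [Matrix.diagonal_pow, ← Matrix.diagonal_one] at h6
    exact congrFun (Matrix.diagonal_injective h6) i
  · apply h.ne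
    have h3 : (((X : Matrix (Fin n) (Fin n) F).charpoly.map ι).eval 1) = 0 := by
      rw [h2, eval_prod]
      exact Finset.prod_eq_zero (Finset.mem_univ i) (by rw [hi]; simp)
    rw [← map_one ι, eval_map, eval₂_hom] at h3
    exact (map_eq_zero ι).1 h3

/-- base change -/
theorem Sp.map {N : ℕ} {X : SpecialLinearGroup (Fin n) F} (h : Sp N X) {K : Type v} [Field K] (ι : F →+* K) :
    Sp N (SpecialLinearGroup.map ι X) where
  pow := by rw [← map_pow, h.pow, map_one]
  sep := by
    have h0 : ((SpecialLinearGroup.map ι X : SpecialLinearGroup (Fin n) K) : Matrix (Fin n) (Fin n) K).charpoly =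
        (X : Matrix (Fin n) (Fin n) F).charpoly.map ι := Matrix.charpoly_map _ _
    rw [h0]
    exact h.sep.map
  ne h3 := by
    have h0 : ((SpecialLinearGroup.map ι X : SpecialLinearGroup (Fin n) K) : Matrix (Fin n) (Fin n) K).charpoly =
        (X : Matrix (Fin n) (Fin n) F).charpoly.map ι := Matrix.charpoly_map _ _
    rw [h0, ← map_one ι, eval_map, eval₂_hom] at h3
    exact h.ne ((map_eq_zero ι).1 h3)

/-- the roots -/
theorem Sp.of_split {N : ℕ} {X : SpecialLinearGroup (Fin n) F} {K : Type v} [Field K] (ι : F →+* K) {lam : Fin n → K}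
    (hinj : Function.Injective lam) (hc : (X : Matrix (Fin n) (Fin n) F).charpoly.map ι = ∏ a, (Polynomial.X - C (lam a)))
    (hN : ∀ a, lam a ^ N = 1) (h1 : ∀ a, lam a ≠ 1) (hn : 0 < n) : Sp N X where
  pow := by
    set M : Matrix (Fin n) (Fin n) K := (X : Matrix (Fin n) (Fin n) F).map ι with hM
    have h0 : M.charpoly = (X : Matrix (Fin n) (Fin n) F).charpoly.map ι := Matrix.charpoly_map _ _
    obtain ⟨P, hP⟩ := exists_diag (M := M) hinj (by rw [h0, hc]) hn
    have hPP : (P : Matrix (Fin n) (Fin n) K) * ((P⁻¹ : SpecialLinearGroup (Fin n) K) : Matrix (Fin n) (Fin n) K) = 1 := by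
      have := congrArg Subtype.val (mul_inv_cancel P)
      exact this
    have h3 : ∀ k : ℕ, M ^ k * (P : Matrix (Fin n) (Fin n) K) = (P : Matrix (Fin n) (Fin n) K) * diagonal lam ^ k := by
      intro k
      induction k with
      | zero => simp
      | succ k ih => rw [pow_succ, Matrix.mul_assoc, hP, ← Matrix.mul_assoc, ih, Matrix.mul_assoc, ← pow_succ]
    have h4 : diagonal lam ^ N = 1 := by
      rw [Matrix.diagonal_pow, ← Matrix.diagonal_one]
      congr 1
      funext i
      exact hN i
    have h5 : M ^ N = 1 := by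
      have h6 := h3 N
      rw [h4, Matrix.mul_one] at h6
      calc M ^ N = M ^ N * ((P : Matrix (Fin n) (Fin n) K) *
            ((P⁻¹ : SpecialLinearGroup (Fin n) K) : Matrix (Fin n) (Fin n) K)) := by rw [hPP, Matrix.mul_one]
        _ = 1 := by rw [← Matrix.mul_assoc, h6, hPP]
    have h7 : SpecialLinearGroup.map ι (X ^ N) = 1 := by
      rw [map_pow]
      apply Subtype.ext
      exact (Matrix.SpecialLinearGroup.coe_pow (Matrix.SpecialLinearGroup.map ι X) N).trans h5
    apply Subtype.ext
    apply Matrix.map_injective ι.injective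
    have h8 := congrArg Subtype.val h7
    rw [← map_one (SpecialLinearGroup.map ι)] at h8
    exact h8
  sep := by
    rw [← Polynomial.separable_map ι, hc]
    exact Polynomial.separable_prod_X_sub_C_iff.2 hinj
  ne h3 := by
    have h4 : (((X : Matrix (Fin n) (Fin n) F).charpoly.map ι).eval 1) = 0 := by
      rw [← map_one ι, eval_map, eval₂_hom, h3, map_zero]
    rw [hc, eval_prod, Finset.prod_eq_zero_iff] at h4
    obtain ⟨i, -, hi⟩ := h4
    simp only [eval_sub, eval_X, eval_C] at hi
    exact h1 i (sub_eq_zero.1 hi).symm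

/-- the inverse -/
theorem Sp.inv {N : ℕ} {X : SpecialLinearGroup (Fin n) F} (h : Sp N X) (hn : 0 < n) : Sp N X⁻¹ := by
  classical
  let f := (X : Matrix (Fin n) (Fin n) F).charpoly
  let ι : F →+* f.SplittingField := algebraMap F f.SplittingField
  obtain ⟨lam, g, e, h1, h2, h3⟩ := h.diag ι (Polynomial.SplittingField.splits f) hn
  have h0 : ∀ i, lam i ≠ 0 := by
    intro i hi
    rw [Finset.prod_eq_zero (Finset.mem_univ i) hi] at h1
    exact zero_ne_one h1
  have hgg : (g : Matrix (Fin n) (Fin n) f.SplittingField) *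
      ((g⁻¹ : GL (Fin n) f.SplittingField) : Matrix (Fin n) (Fin n) f.SplittingField) = 1 := by
    rw [← Units.val_mul, mul_inv_cancel, Units.val_one]
  have hgg' : ((g⁻¹ : GL (Fin n) f.SplittingField) : Matrix (Fin n) (Fin n) f.SplittingField) *
      (g : Matrix (Fin n) (Fin n) f.SplittingField) = 1 := by
    rw [← Units.val_mul, inv_mul_cancel, Units.val_one]
  have hD : diagonal lam * diagonal (fun i => (lam i)⁻¹) = 1 := by
    rw [diagonal_mul_diagonal, ← Matrix.diagonal_one]
    congr 1
    funext i
    exact mul_inv_cancel₀ (h0 i)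
  have e2 : ((X⁻¹ : SpecialLinearGroup (Fin n) F) : Matrix (Fin n) (Fin n) F).map ι =
      (g : Matrix (Fin n) (Fin n) f.SplittingField) * diagonal (fun i => (lam i)⁻¹) *
      ((g⁻¹ : GL (Fin n) f.SplittingField) : Matrix (Fin n) (Fin n) f.SplittingField) := by
    have h5 : (X : Matrix (Fin n) (Fin n) F).map ι *
        ((g : Matrix (Fin n) (Fin n) f.SplittingField) * diagonal (fun i => (lam i)⁻¹) *
          ((g⁻¹ : GL (Fin n) f.SplittingField) : Matrix (Fin n) (Fin n) f.SplittingField)) = 1 := by
      rw [e]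
      calc _ = (g : Matrix (Fin n) (Fin n) f.SplittingField) * (diagonal lam *
            ((((g⁻¹ : GL (Fin n) f.SplittingField) : Matrix (Fin n) (Fin n) f.SplittingField) *
            (g : Matrix (Fin n) (Fin n) f.SplittingField)) * diagonal (fun i => (lam i)⁻¹))) *
            ((g⁻¹ : GL (Fin n) f.SplittingField) : Matrix (Fin n) (Fin n) f.SplittingField) := by
              simp only [Matrix.mul_assoc]
        _ = 1 := by rw [hgg', Matrix.one_mul, hD, Matrix.mul_one, hgg]
    have h6 : ((X⁻¹ : SpecialLinearGroup (Fin n) F) : Matrix (Fin n) (Fin n) F).map ι *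
        (X : Matrix (Fin n) (Fin n) F).map ι = 1 := by
      have := congrArg Subtype.val (congrArg (SpecialLinearGroup.map ι) (inv_mul_cancel X))
      rw [map_mul, map_one] at this
      exact this
    calc ((X⁻¹ : SpecialLinearGroup (Fin n) F) : Matrix (Fin n) (Fin n) F).map ι
        = ((X⁻¹ : SpecialLinearGroup (Fin n) F) : Matrix (Fin n) (Fin n) F).map ι *
          ((X : Matrix (Fin n) (Fin n) F).map ι *
        ((g : Matrix (Fin n) (Fin n) f.SplittingField) * diagonal (fun i => (lam i)⁻¹) *
          ((g⁻¹ : GL (Fin n) f.SplittingField) : Matrix (Fin n) (Fin n) f.SplittingField))) := by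
            rw [h5, Matrix.mul_one]
      _ = _ := by rw [← Matrix.mul_assoc, h6, Matrix.one_mul]
  have hchar : ∀ μ : Fin n → f.SplittingField, ((g : Matrix (Fin n) (Fin n) f.SplittingField) * diagonal μ *
      ((g⁻¹ : GL (Fin n) f.SplittingField) : Matrix (Fin n) (Fin n) f.SplittingField)).charpoly =
      ∏ a, (Polynomial.X - C (μ a)) := by
    intro μ
    rw [Matrix.coe_units_inv, Matrix.charpoly_units_conj, Matrix.charpoly_of_upperTriangular _ (Matrix.blockTriangular_diagonal μ)]
    exact Finset.prod_congr rfl fun i _ => by rw [diagonal_apply_eq]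
  have hinj : Function.Injective lam := by
    have h7 : ((X : Matrix (Fin n) (Fin n) F).charpoly.map ι) = ∏ a, (Polynomial.X - C (lam a)) := by
      rw [← hchar lam, ← e]
      exact (Matrix.charpoly_map _ _).symm
    have h8 : ((X : Matrix (Fin n) (Fin n) F).charpoly.map ι).Separable := h.sep.map
    rw [h7] at h8
    exact Polynomial.separable_prod_X_sub_C_iff.1 h8
  refine Sp.of_split ι (lam := fun i => (lam i)⁻¹) (fun i j hij => hinj (inv_injective hij)) ?_ (fun i => ?_) (fun i hi => ?_) hn
  · rw [← hchar, ← e2]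
    exact (Matrix.charpoly_map _ _).symm
  · rw [inv_pow, h2, inv_one]
  · exact h3 i (inv_eq_one.1 hi)

/-- an irreducible characteristic polynomial -/
theorem Sp.of_irreducible [Finite F] {N : ℕ} {X : SpecialLinearGroup (Fin n) F} (hn : 2 ≤ n) (hN : X ^ N = 1)
    (h : Irreducible (X : Matrix (Fin n) (Fin n) F).charpoly) : Sp N X where
  pow := hN
  sep := PerfectField.separable_of_irreducible h
  ne h0 := by
    have h1 : (X : Matrix (Fin n) (Fin n) F).charpoly.natDegree = n := by
      rw [Matrix.charpoly_natDegree_eq_dim, Fintype.card_fin]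
    have h2 := Polynomial.degree_eq_one_of_irreducible_of_root h (x := 1) h0
    have h3 : (X : Matrix (Fin n) (Fin n) F).charpoly.natDegree = 1 := Polynomial.natDegree_eq_of_degree_eq_some h2
    omega

end Cfsg.Agent.H928.Pw.Dg
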