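import Cfsg.Agent.H928.Ore.TwRow

/-!
`²E₆(q)`, the Levi subgroup `A₂(q) A₁(q²)` of the relative nodes `{0, 1, 3}` (S2465).

* `VJ3_le`, `VNJ3_le` : the unipotent radicals inside those of the absolute nodes `{0, 1, 3, 5}`;
* `exists_psi` : the homomorphism `ψ : SL₂(K) → ²E₆(q)` of the relative node `3`; `psi_LJ`, `up3`, `lo3`, `psi_comm`;
* `UJ3`, `UNJ3` : the unipotent subgroups of the Levi subgroup are products.
-/

set_option autoImplicit false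
set_option linter.unusedSectionVars false

namespace Cfsg.Agent.H928.Pw.TwJ

open CoxeterSystem Cfsg.Agent.ChevalleyStructure.CoxeterGeom Cfsg.Agent.Tits.Roots Cfsg.Agent.Tits.Core
  Cfsg.Agent.Nodes Cfsg.Agent.Nodes.Reps Cfsg.Agent.Nodes.BNOf Cfsg.Agent.Nodes.RGDLib Cfsg.Agent.Nodes.Bruhat
  Cfsg.Agent.Nodes.OppDec Cfsg.Agent.Nodes.LeviDec Cfsg.Agent.Nodes.StabComb Cfsg.Agent.Nodes.KindChev
  Cfsg.Agent.Nodes.ChevCls
  Cfsg.Agent.OddHalf.NI.ModelChev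
  Cfsg.Agent.H162.GaussDec Cfsg.Agent.H162.GaussLevi Cfsg.Agent.H162.GaussSL Cfsg.Agent.H162.GaussReg
  Cfsg.Agent.H928.Ore.Frame Cfsg.Agent.H928.Ore.Fix Cfsg.Agent.H928.Ore.Block Cfsg.Agent.H928.Ore.TwE
  Cfsg.Agent.H928.Ore.TwS Cfsg.Agent.H928.Ore.TwF
open Cfsg.Lie Cfsg.Agent.ChevalleyStructure Cfsg.Agent.ChevalleyStructure.Elts
  Cfsg.Agent.ChevalleyStructure.NPerm
  Cfsg.Agent.ChevalleyStructure.CoxeterGeomTypes Cfsg.Agent.Nodes.RGDChev Cfsg.Agent.KFacts.RgdChevCoord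
open Cfsg.Agent.Nodes.RGDTwGen Cfsg.Agent.Nodes.RGDFold Cfsg.Agent.Nodes.RGDTwE6
open Cfsg.Agent.Nodes.RGDFoldSL (Fx mem_Fx yv)
open Cfsg.Agent.ChevalleyStructure.TwistedU Cfsg.Agent.ChevalleyStructure.TwistedFix
open Cfsg.Agent.FixBN.FieldRGD (uu vv dd ww)
open Cfsg.Agent.H162.GaussExcMain (r6 rt6 exists_hom_D w6)
open Cfsg.Agent.H162.GaussPQ (tv_mem_UT tv_mem_LT)
open scoped MatrixGroups

universe u

theorem mem_sup_comm {G : Type*} [Group G] {A B : Subgroup G} (hc : ∀ a ∈ A, ∀ b ∈ B, a * b = b * a) {x : G}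
    (hx : x ∈ A ⊔ B) : ∃ a ∈ A, ∃ b ∈ B, x = a * b := by
  let H : Subgroup G :=
    { carrier := {x | ∃ a ∈ A, ∃ b ∈ B, x = a * b}
      mul_mem' := by
        rintro _ _ ⟨a, ha, b, hb, rfl⟩ ⟨a', ha', b', hb', rfl⟩
        refine ⟨a * a', mul_mem ha ha', b * b', mul_mem hb hb', ?_⟩
        calc a * b * (a' * b') = a * (b * a') * b' := by group
          _ = a * a' * (b * b') := by rw [← hc a' ha' b hb]; group
      one_mem' := ⟨1, one_mem _, 1, one_mem _, (mul_one 1).symm⟩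
      inv_mem' := by
        rintro _ ⟨a, ha, b, hb, rfl⟩
        refine ⟨a⁻¹, inv_mem ha, b⁻¹, inv_mem hb, ?_⟩
        rw [_root_.mul_inv_rev, hc a⁻¹ (inv_mem ha) b⁻¹ (inv_mem hb)] }
  have h1 : A ≤ H := fun a ha => ⟨a, ha, 1, one_mem _, (mul_one a).symm⟩
  have h2 : B ≤ H := fun b hb => ⟨1, one_mem _, b, hb, (one_mul b).symm⟩
  exact sup_le h1 h2 hx

/-! ### The unipotent radicals -/

/-- the relative nodes -/
def J3R : Set (Fin 4) := {k | k ≠ 2}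

/-- the absolute nodes -/
def J3A : Set (Fin 6) := {k | k ≠ 2 ∧ k ≠ 4}

theorem not_J3R {k : Fin 4} : k ∉ J3R ↔ k = 2 := not_not

theorem not_J3A {k : Fin 6} : k ∉ J3A ↔ k = 2 ∨ k = 4 := by
  change ¬ (k ≠ 2 ∧ k ≠ 4) ↔ _
  rw [not_and_or, not_not, not_not]

theorem tab0 : ∀ r < chevE6.nroots, (∀ k : Fin 4, 0 ≤ V chevE6 J r k) → 0 < V chevE6 J r 2 →
    (∀ k : Fin 6, 0 ≤ vec chevE6 6 r k) ∧ ∃ k : Fin 6, (k = 2 ∨ k = 4) ∧ 0 < vec chevE6 6 r k := by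
  have h : ∀ r : Fin 72, (∀ k : Fin 4, 0 ≤ V chevE6 J r k) → 0 < V chevE6 J r 2 →
    (∀ k : Fin 6, 0 ≤ vec chevE6 6 r k) ∧ ∃ k : Fin 6, (k = 2 ∨ k = 4) ∧ 0 < vec chevE6 6 r k := by decide +kernel
  exact fun r hr => h ⟨r, hr⟩

theorem tab0N : ∀ r < chevE6.nroots, (∀ k : Fin 4, V chevE6 J r k ≤ 0) → V chevE6 J r 2 < 0 →
    (∀ k : Fin 6, vec chevE6 6 r k ≤ 0) ∧ ∃ k : Fin 6, (k = 2 ∨ k = 4) ∧ vec chevE6 6 r k < 0 := by
  have h : ∀ r : Fin 72, (∀ k : Fin 4, V chevE6 J r k ≤ 0) → V chevE6 J r 2 < 0 →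
    (∀ k : Fin 6, vec chevE6 6 r k ≤ 0) ∧ ∃ k : Fin 6, (k = 2 ∨ k = 4) ∧ vec chevE6 6 r k < 0 := by decide +kernel
  exact fun r hr => h ⟨r, hr⟩

section

variable {K : Type u} [Field K] {W : Type*} [Group W] (cs : CoxeterSystem CoxeterMatrix.F₄ W)

theorem VJ3_le (φ : K →+* K) (q : ℕ) : VJ cs RGDTwE6.isCartan (X φ q) J3R ≤
    (VJ CoxeterMatrix.E₆.toCoxeterSystem RGDTwE6.hp.isCartan (XX chevE6 6 K) J3A).comap (inc K q) := by
  refine RGD.Sup_le fun z hz => X_le fun r hr hrz => ?_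
  obtain ⟨-, h0, k, hk, hk0⟩ := hz
  rw [not_J3R] at hk
  subst hk
  obtain ⟨h1, k', hk', h2⟩ := tab0 r hr (fun k => by rw [hrz]; exact h0 k) (by rw [hrz]; exact hk0)
  exact RGD.le_Sup ⟨isRoot_vec RGDTwE6.hp _ hr, fun k => h1 k, k', not_J3A.2 hk', h2⟩

theorem VNJ3_le (φ : K →+* K) (q : ℕ) : VNJ cs RGDTwE6.isCartan (X φ q) J3R ≤
    (VNJ CoxeterMatrix.E₆.toCoxeterSystem RGDTwE6.hp.isCartan (XX chevE6 6 K) J3A).comap (inc K q) := by
  refine RGD.Sup_le fun z hz => X_le fun r hr hrz => ?_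
  obtain ⟨-, h0, k, hk, hk0⟩ := hz
  rw [not_J3R] at hk
  subst hk
  obtain ⟨h1, k', hk', h2⟩ := tab0N r hr (fun k => by
      have := h0 k
      rw [hrz]
      simpa using this) (by rw [hrz]; simpa using hk0)
  refine RGD.le_Sup ⟨(isRoot_vec RGDTwE6.hp _ hr).neg, fun k => ?_, k', not_J3A.2 hk', ?_⟩
  · have := h1 k
    simpa using this
  · simpa using h2

end

/-! ### The homomorphism of the node `3` -/

section

variable {K : Type u} [Field K] [Fintype K] {φ : K →+* K} {q : ℕ} (hφ : ∀ t, φ t = t ^ q)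
  (hqq : ∀ t : K, (t ^ q) ^ q = t)

include hφ hqq

theorem exists_psi : ∃ ψ : SL(2, K) →* ↥(twistedE6 K q), ∀ A,
    inc K q (ψ A) = sl RGDTwE6.hp (0 : Fin 6) A * sl RGDTwE6.hp (5 : Fin 6) (Matrix.SpecialLinearGroup.map φ A) := by
  have hφφ : ∀ t : K, φ (φ t) = t := fun t => by rw [hφ, hφ, hqq]
  let g : SL(2, K) →* ↥(chevE6.group K) := MonoidHom.mk'
    (fun A => sl RGDTwE6.hp (0 : Fin 6) A * sl RGDTwE6.hp (5 : Fin 6) (Matrix.SpecialLinearGroup.map φ A)) (by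
      intro A B
      rw [map_mul, map_mul, map_mul]
      calc _ = sl RGDTwE6.hp (0 : Fin 6) A * (sl RGDTwE6.hp (0 : Fin 6) B *
            sl RGDTwE6.hp (5 : Fin 6) (Matrix.SpecialLinearGroup.map φ A)) *
            sl RGDTwE6.hp (5 : Fin 6) (Matrix.SpecialLinearGroup.map φ B) := by group
        _ = _ := by rw [sl_comm]; group)
  have hg : ∀ A, sgY φ (g A) = g A := by
    intro A
    change sgY φ (sl RGDTwE6.hp (0 : Fin 6) A * sl RGDTwE6.hp (5 : Fin 6) (Matrix.SpecialLinearGroup.map φ A)) =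
      sl RGDTwE6.hp (0 : Fin 6) A * sl RGDTwE6.hp (5 : Fin 6) (Matrix.SpecialLinearGroup.map φ A)
    have e : Matrix.SpecialLinearGroup.map φ (Matrix.SpecialLinearGroup.map φ A) = A := by
      apply Subtype.ext
      ext i j
      exact hφφ _
    rw [map_mul, sgY_sl, sgY_sl, e]
    change sl RGDTwE6.hp (5 : Fin 6) _ * sl RGDTwE6.hp (0 : Fin 6) _ = _
    rw [← sl_comm]
  refine ⟨((chevE6.group K).subtype.comp g).codRestrict (twistedE6 K q) (fun A => ?_), fun A => rfl⟩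
  refine H91.E6Fix.mem_twisted_of_fixed hφ hφφ (g A).2 ?_
  exact congrArg Subtype.val (hg A)

variable {ψ : SL(2, K) →* ↥(twistedE6 K q)} (hψ : ∀ A,
    inc K q (ψ A) = sl RGDTwE6.hp (0 : Fin 6) A * sl RGDTwE6.hp (5 : Fin 6) (Matrix.SpecialLinearGroup.map φ A))

include hψ

theorem psi_uu (a : K) : inc K q (ψ (uu a)) = xc RGDTwE6.hp (vec chevE6 6 56) a * xc RGDTwE6.hp (vec chevE6 6 36) (φ a) := by
  have e : Matrix.SpecialLinearGroup.map φ (uu a) = uu (φ a) := by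
    apply Subtype.ext
    change (!![(1 : K), a; 0, 1]).map φ = !![1, φ a; 0, 1]
    ext i j
    fin_cases i <;> fin_cases j <;> simp
  rw [hψ, e, sl_uu, sl_uu, sr0.1, sr5.1]

theorem psi_ww : ψ (ww (1 : K) one_ne_zero) = nn hφ 3 := by
  have e3 : Matrix.SpecialLinearGroup.map φ (ww (1 : K) one_ne_zero) = ww 1 one_ne_zero := by
    apply Subtype.ext
    change (!![(0 : K), 1; -1⁻¹, 0]).map φ = !![(0 : K), 1; -1⁻¹, 0]
    ext i j
    fin_cases i <;> fin_cases j <;> simp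
  apply inc_injective q
  rw [hψ, e3, sl_ww, sl_ww]
  apply Subtype.ext
  change _ = nI RGDTwE6.hp K [(0 : Fin 6), 5]
  rw [nI_cons, nI_cons]
  unfold nI
  rw [List.map_nil, List.prod_nil, mul_one]
  rfl

/-- the root group of the node `3` -/
theorem up3' {y : ↥(twistedE6 K q)} (hy : y ∈ X φ q (sr (3 : Fin 4))) : ∃ a : K, y = ψ (uu a) := by
  have h := ((Cfsg.Agent.H958.TS.TwCommon.coordP hφ hqq).up 3)
  have hy' : y ∈ (X φ q (sr (3 : Fin 4)) : Set ↥(twistedE6 K q)) := hy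
  rw [h] at hy'
  obtain ⟨a, rfl⟩ := hy'
  refine ⟨(a : K), ?_⟩
  symm
  apply inc_injective q
  rw [psi_uu hφ hqq hψ]
  apply Subtype.ext
  rw [Subgroup.coe_mul, coe_xc RGDTwE6.hp (by decide), coe_xc RGDTwE6.hp (by decide)]
  have h2 := Cfsg.Agent.Nodes.RGDFoldSL.coe_Phi_up (foldGrp hφ hqq) (Cfsg.Agent.Nodes.RGDTwNode.E6.nodeOK 3)
    (Cfsg.Agent.H958.TS.TwCommon.hf hφ hqq 3) a
  refine Eq.trans ?_ h2.symm
  change _ = xG RGDTwE6.hp.inList 56 (a : K) * (xG RGDTwE6.hp.inList 36 (φ (a : K)) * 1)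
  rw [mul_one]

theorem up3 : X φ q (sr (3 : Fin 4)) ≤ (UT 2 K).map ψ := by
  intro y hy
  obtain ⟨a, rfl⟩ := up3' hφ hqq hψ hy
  refine ⟨uu a, ?_, rfl⟩
  have := tv_mem_UT (K := K) (show (0 : Fin 2) ≠ 1 by decide) (by decide) a
  rwa [tv01] at this

theorem lo3 : X φ q (-sr (3 : Fin 4)) ≤ (LT 2 K).map ψ := by
  obtain ⟨p, hpc⟩ := CharP.exists K
  have : Fact p.Prime := ⟨(CharP.char_is_prime_or_zero K p).resolve_right (CharP.char_ne_zero_of_finite K p)⟩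
  have R := RGDTwE6.rgd CoxeterMatrix.F₄.toCoxeterSystem hφ hqq p
  have h1 := R.conj 3 (sr 3) (isRoot_sr _ isCartan 3)
  rw [rep_simple_sr] at h1
  intro y hy
  rw [← h1] at hy
  obtain ⟨x, hx, rfl⟩ := hy
  obtain ⟨a, rfl⟩ := up3' hφ hqq hψ hx
  refine ⟨vv (-a), ?_, ?_⟩
  · have := tv_mem_LT (K := K) (show (1 : Fin 2) ≠ 0 by decide) (by decide) (-a)
    rwa [tv10] at this
  · have e : (vv (-a) : SL(2, K)) = ww 1 one_ne_zero * uu a * (ww 1 one_ne_zero)⁻¹ := by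
      rw [eq_mul_inv_iff_mul_eq]
      apply Subtype.ext
      change !![(1 : K), 0; -a, 1] * !![(0 : K), 1; -1⁻¹, 0] = !![(0 : K), 1; -1⁻¹, 0] * !![1, a; 0, 1]
      rw [Matrix.mul_fin_two, Matrix.mul_fin_two]
      simp
    rw [e, map_mul, map_mul, map_inv, psi_ww hφ hqq hψ]
    rfl

theorem psi_X (a : K) : ψ (uu a) ∈ X φ q (sr (3 : Fin 4)) := by
  refine Subgroup.mem_subgroupOf.2 ⟨?_, ?_⟩
  · have h1 := congrArg (Subtype.val) (psi_uu hφ hqq hψ a)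
    rw [Subgroup.coe_mul, coe_xc RGDTwE6.hp (by decide), coe_xc RGDTwE6.hp (by decide)] at h1
    have h2 : ((ψ (uu a) : ↥(twistedE6 K q)) : GL chevE6.Idx K) =
        xG RGDTwE6.hp.inList 56 a * xG RGDTwE6.hp.inList 36 (φ a) := h1
    have h3 : V chevE6 J 56 = sr (3 : Fin 4) ∧ V chevE6 J 36 = sr (3 : Fin 4) := by
      constructor <;> (funext k; fin_cases k <;> decide +kernel)
    rw [h2]
    exact mul_mem
      (mem_rspan (xG (F := K) RGDTwE6.hp.inList) (S := {k | k < chevE6.nroots ∧ V chevE6 J k = sr (3 : Fin 4)})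
        ⟨by decide, h3.1⟩ _)
      (mem_rspan (xG (F := K) RGDTwE6.hp.inList) (S := {k | k < chevE6.nroots ∧ V chevE6 J k = sr (3 : Fin 4)})
        ⟨by decide, h3.2⟩ _)
  · exact TwE6Basic.twisted_le_fix φ hφ hqq (ψ (uu a)).2

variable {W : Type*} [Group W] (cs : CoxeterSystem CoxeterMatrix.F₄ W)

theorem psi_LJ (A : SL(2, K)) : ψ A ∈ LJ cs RGDTwE6.isCartan (T K q) (X φ q) J3R := by
  obtain ⟨p, hpc⟩ := CharP.exists K
  have : Fact p.Prime := ⟨(CharP.char_is_prime_or_zero K p).resolve_right (CharP.char_ne_zero_of_finite K p)⟩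
  have R := RGDTwE6.rgd cs hφ hqq p
  have hJ : ∀ k : Fin 4, k ∉ J3R → (sr (3 : Fin 4) : Fin 4 → ℤ) k = 0 := by
    intro k hk
    rw [not_J3R] at hk
    subst hk
    exact sr_ne (by decide)
  have hX : ∀ a : K, ψ (uu a) ∈ LJ cs RGDTwE6.isCartan (T K q) (X φ q) J3R := fun a =>
    X_le_LJ (J := J3R) (x := sr (3 : Fin 4)) ⟨isRoot_sr _ isCartan 3, hJ⟩ (psi_X hφ hqq hψ a)
  have h1 := R.conj 3 (sr 3) (isRoot_sr _ isCartan 3)
  rw [rep_simple_sr] at h1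
  have e : ∀ a : K, (vv (-a) : SL(2, K)) = ww 1 one_ne_zero * uu a * (ww 1 one_ne_zero)⁻¹ := by
    intro a
    rw [eq_mul_inv_iff_mul_eq]
    apply Subtype.ext
    change !![(1 : K), 0; -a, 1] * !![(0 : K), 1; -1⁻¹, 0] = !![(0 : K), 1; -1⁻¹, 0] * !![1, a; 0, 1]
    rw [Matrix.mul_fin_two, Matrix.mul_fin_two]
    simp
  have hN : ∀ a : K, ψ (vv a) ∈ LJ cs RGDTwE6.isCartan (T K q) (X φ q) J3R := by
    intro a
    refine X_le_LJ (J := J3R) (x := -sr (3 : Fin 4)) ⟨(isRoot_sr _ isCartan 3).neg, fun k hk => ?_⟩ ?_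
    · rw [Pi.neg_apply, hJ k hk, neg_zero]
    · rw [← h1]
      refine ⟨ψ (uu (-a)), psi_X hφ hqq hψ (-a), ?_⟩
      have e1 := e (-a)
      rw [neg_neg] at e1
      rw [e1, map_mul, map_mul, map_inv, psi_ww hφ hqq hψ]
      rfl
  have h2 : (⊤ : Subgroup (SL(2, K))) ≤ (LJ cs RGDTwE6.isCartan (T K q) (X φ q) J3R).comap ψ := by
    rw [← Cfsg.Agent.LieClassical.SLGen.closure_transvections, Subgroup.closure_le]
    rintro _ ⟨a, b, hab, c, rfl⟩
    change ψ _ ∈ LJ cs RGDTwE6.isCartan (T K q) (X φ q) J3R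
    fin_cases a <;> fin_cases b
    · exact absurd rfl hab
    · have e1 := tv01 c
      have e2 : ψ (Matrix.SpecialLinearGroup.transvection hab c) = ψ (uu c) := congrArg ψ e1
      rw [e2]
      exact hX c
    · have e1 := tv10 c
      have e2 : ψ (Matrix.SpecialLinearGroup.transvection hab c) = ψ (vv c) := congrArg ψ e1
      rw [e2]
      exact hN c
    · exact absurd rfl hab
  exact h2 (Subgroup.mem_top A)

end

/-! ### The Levi subgroup -/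

section

variable {K : Type u} [Field K] [Fintype K] {φ : K →+* K} {q : ℕ} (hφ : ∀ t, φ t = t ^ q)
  (hqq : ∀ t : K, (t ^ q) ^ q = t)
  {ψ : SL(2, K) →* ↥(twistedE6 K q)} (hψ : ∀ A,
    inc K q (ψ A) = sl RGDTwE6.hp (0 : Fin 6) A * sl RGDTwE6.hp (5 : Fin 6) (Matrix.SpecialLinearGroup.map φ A))
  {P : Matrix.SpecialLinearGroup (Fin 3) K →* ↥(chevE6.group K)}
    (hP : ∀ a b (hab : a ≠ b) c, P (Matrix.SpecialLinearGroup.transvection hab c) =
      xc RGDTwE6.hp (vec chevE6 6 (r6 a b)) (((1 : ℤ) : K) * c))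
    {f : Matrix.SpecialLinearGroup (Fin 3) (Fx φ 1) →* ↥(twistedE6 K q)}
    (hf : ∀ A, inc K q (f A) = P (Matrix.SpecialLinearGroup.map (Fx φ 1).subtype A))
    {W : Type*} [Group W] (cs : CoxeterSystem CoxeterMatrix.F₄ W)

include hψ hP hf

theorem f_psi (A : Matrix.SpecialLinearGroup (Fin 3) (Fx φ 1)) (B : SL(2, K)) : f A * ψ B = ψ B * f A := by
  apply inc_injective q
  rw [map_mul, map_mul, hψ, hf]
  calc P (Matrix.SpecialLinearGroup.map (Fx φ 1).subtype A) * (sl RGDTwE6.hp (0 : Fin 6) B *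
        sl RGDTwE6.hp (5 : Fin 6) (Matrix.SpecialLinearGroup.map φ B))
      = (P (Matrix.SpecialLinearGroup.map (Fx φ 1).subtype A) * sl RGDTwE6.hp (0 : Fin 6) B) *
        sl RGDTwE6.hp (5 : Fin 6) (Matrix.SpecialLinearGroup.map φ B) := by group
    _ = sl RGDTwE6.hp (0 : Fin 6) B * (P (Matrix.SpecialLinearGroup.map (Fx φ 1).subtype A) *
        sl RGDTwE6.hp (5 : Fin 6) (Matrix.SpecialLinearGroup.map φ B)) := by
      rw [← sl_comm_block hP (Or.inl rfl)]; group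
    _ = _ := by rw [← sl_comm_block hP (Or.inr rfl)]; group

include hφ hqq

omit hψ hP hf in
theorem root3 {z : Fin 4 → ℤ} (hz : IsRoot cs RGDTwE6.isCartan z) (h2 : z 2 = 0) :
    z 3 = 0 ∨ z = sr (3 : Fin 4) ∨ z = -sr (3 : Fin 4) := by
  obtain ⟨i, hi, e, hiz⟩ := RGDTwActE6.index (cs := cs) hz
  have hlt : (RGDTwCoordE6.O.getD i []).headD 0 < 72 := by
    have h : ∀ i < 48, (RGDTwCoordE6.O.getD i []).headD 0 < 72 := by decide +kernel
    exact h i hi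
  have h : ∀ s : Fin 72, V chevE6 J s 2 = 0 → V chevE6 J s 3 = 0 ∨ V chevE6 J s = sr (3 : Fin 4) ∨
      V chevE6 J s = -sr (3 : Fin 4) := by
    have h' : ∀ s : Fin 72, V chevE6 J s 2 = 0 → V chevE6 J s 3 = 0 ∨ (∀ k, V chevE6 J s k = (Pi.single 3 1 : Fin 4 → ℤ) k) ∨
      (∀ k, V chevE6 J s k = -(Pi.single 3 1 : Fin 4 → ℤ) k) := by decide +kernel
    intro s hs
    rcases h' s hs with h | h | h
    · exact Or.inl h
    · exact Or.inr (Or.inl (funext h))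
    · exact Or.inr (Or.inr (funext h))
  have h3 := h ⟨_, hlt⟩ (by
    change V chevE6 J ((RGDTwCoordE6.O.getD i []).headD 0) 2 = 0
    rw [hiz]; exact h2)
  change V chevE6 J ((RGDTwCoordE6.O.getD i []).headD 0) 3 = 0 ∨ V chevE6 J ((RGDTwCoordE6.O.getD i []).headD 0) = _ ∨
    V chevE6 J ((RGDTwCoordE6.O.getD i []).headD 0) = _ at h3
  rw [hiz] at h3
  exact h3

theorem f_LJ3 (A : Matrix.SpecialLinearGroup (Fin 3) (Fx φ 1)) :
    f A ∈ LJ cs RGDTwE6.isCartan (T K q) (X φ q) J3R := by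
  have h1 : (⊤ : Subgroup (Matrix.SpecialLinearGroup (Fin 3) (Fx φ 1))) ≤
      (LJ cs RGDTwE6.isCartan (T K q) (X φ q) J3R).comap f := by
    rw [← Cfsg.Agent.LieClassical.SLGen.closure_transvections, Subgroup.closure_le]
    rintro _ ⟨a, b, hab, c, rfl⟩
    change f _ ∈ LJ cs RGDTwE6.isCartan (T K q) (X φ q) J3R
    refine X_le_LJ (J := J3R) (x := V chevE6 J (r6 a b)) ⟨RGDTwComE6.isRoot_V (rlt a b hab), fun k hk => ?_⟩
      (f_X hφ hqq hP hf hab c)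
    rw [not_J3R] at hk
    subst hk
    exact (V_r6 a b hab).1
  exact h1 (Subgroup.mem_top A)

/-- the positive unipotent subgroup of the Levi subgroup -/
theorem UJ3 {u : ↥(twistedE6 K q)} (hu : u ∈ UJ cs RGDTwE6.isCartan (X φ q) J3R) :
    ∃ U ∈ UT 3 (Fx φ 1), ∃ U' ∈ UT 2 K, u = f U * ψ U' := by
  have h : UJ cs RGDTwE6.isCartan (X φ q) J3R ≤ (UT 3 (Fx φ 1)).map f ⊔ (UT 2 K).map ψ := by
    refine RGD.Sup_le fun z hz => ?_
    have h2 : z 2 = 0 := hz.2.2 2 (not_J3R.2 rfl)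
    rcases root3 hφ hqq cs hz.1 h2 with h | h | h
    · refine le_trans ?_ le_sup_left
      refine le_trans ?_ (up_f hφ hqq hP hf cs)
      refine RGD.le_Sup ⟨hz.1, hz.2.1, fun k hk => ?_⟩
      have hk' : k = 2 ∨ k = 3 := by
        have h : ∀ k : Fin 4, ¬ (k = 0 ∨ k = 1) → k = 2 ∨ k = 3 := by decide
        exact h k hk
      rcases hk' with rfl | rfl
      · exact h2
      · exact h
    · rw [h]
      exact (up3 hφ hqq hψ).trans le_sup_right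
    · exfalso
      have h3 := hz.2.1 3
      rw [h] at h3
      change (0 : ℤ) ≤ -(Pi.single (3 : Fin 4) 1 : Fin 4 → ℤ) 3 at h3
      rw [Pi.single_eq_same] at h3
      omega
  obtain ⟨_, ⟨A, hA, rfl⟩, _, ⟨B, hB, rfl⟩, rfl⟩ := mem_sup_comm (fun a ha b hb => by
    obtain ⟨A, -, rfl⟩ := ha
    obtain ⟨B, -, rfl⟩ := hb
    exact f_psi hψ hP hf A B) (h hu)
  exact ⟨A, hA, B, hB, rfl⟩

/-- the negative unipotent subgroup of the Levi subgroup -/
theorem UNJ3 {v : ↥(twistedE6 K q)} (hv : v ∈ UNJ cs RGDTwE6.isCartan (X φ q) J3R) :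
    ∃ L ∈ LT 3 (Fx φ 1), ∃ L' ∈ LT 2 K, v = f L * ψ L' := by
  have h : UNJ cs RGDTwE6.isCartan (X φ q) J3R ≤ (LT 3 (Fx φ 1)).map f ⊔ (LT 2 K).map ψ := by
    refine RGD.Sup_le fun z hz => ?_
    have hz' : IsRoot cs RGDTwE6.isCartan z := by
      have := hz.1.neg
      rwa [_root_.neg_neg] at this
    have h2 : z 2 = 0 := by
      have := hz.2.2 2 (not_J3R.2 rfl)
      simpa using this
    rcases root3 hφ hqq cs hz' h2 with h | h | h
    · refine le_trans ?_ le_sup_left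
      refine le_trans ?_ (lo_f hφ hqq hP hf cs)
      refine RGD.le_Sup ⟨hz.1, hz.2.1, fun k hk => ?_⟩
      have hk' : k = 2 ∨ k = 3 := by
        have h : ∀ k : Fin 4, ¬ (k = 0 ∨ k = 1) → k = 2 ∨ k = 3 := by decide
        exact h k hk
      rcases hk' with rfl | rfl
      · simpa using h2
      · simpa using h
    · exfalso
      have h3 := hz.2.1 3
      rw [h] at h3
      change (0 : ℤ) ≤ -(Pi.single (3 : Fin 4) 1 : Fin 4 → ℤ) 3 at h3
      rw [Pi.single_eq_same] at h3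
      omega
    · rw [h]
      exact (lo3 hφ hqq hψ).trans le_sup_right
  obtain ⟨_, ⟨A, hA, rfl⟩, _, ⟨B, hB, rfl⟩, rfl⟩ := mem_sup_comm (fun a ha b hb => by
    obtain ⟨A, -, rfl⟩ := ha
    obtain ⟨B, -, rfl⟩ := hb
    exact f_psi hψ hP hf A B) (h hv)
  exact ⟨A, hA, B, hB, rfl⟩

end

end Cfsg.Agent.H928.Pw.TwJ
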