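import Cfsg.Agent.H928.Pw.TwNf
import Cfsg.Agent.H928.War.TwOne
import Cfsg.Agent.H78.Pw.Base

/-!
`²E₆(q)`: every element is a product of two elements of order prime to `6`, from the product lemmas for `SL₃(q)` and
`SL₂(q²)` (S2465).
-/

set_option autoImplicit false
set_option linter.unusedSectionVars false

namespace Cfsg.Agent.H928.Pw.TwSix

open CoxeterSystem Cfsg.Agent.ChevalleyStructure.CoxeterGeom Cfsg.Agent.Tits.Roots Cfsg.Agent.Tits.Core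
  Cfsg.Agent.Nodes Cfsg.Agent.Nodes.Reps Cfsg.Agent.Nodes.BNOf Cfsg.Agent.Nodes.RGDLib Cfsg.Agent.Nodes.Bruhat
  Cfsg.Agent.Nodes.OppDec Cfsg.Agent.Nodes.LeviDec Cfsg.Agent.Nodes.StabComb Cfsg.Agent.Nodes.KindChev
  Cfsg.Agent.Nodes.ChevCls
  Cfsg.Agent.OddHalf.NI.ModelChev
  Cfsg.Agent.H162.GaussDec Cfsg.Agent.H162.GaussLevi Cfsg.Agent.H162.GaussSL Cfsg.Agent.H162.GaussReg
  Cfsg.Agent.H928.Ore.Frame Cfsg.Agent.H928.Ore.Fix Cfsg.Agent.H928.Ore.Block Cfsg.Agent.H928.Ore.TwE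
  Cfsg.Agent.H928.Ore.TwS Cfsg.Agent.H928.Ore.TwF Cfsg.Agent.H928.Pw.TwJ Cfsg.Agent.H928.Pw.Dg
  Cfsg.Agent.H928.Pw.TwNf Cfsg.Agent.H928.War.TwT
open Cfsg.Lie Cfsg.Agent.ChevalleyStructure Cfsg.Agent.ChevalleyStructure.Elts
  Cfsg.Agent.ChevalleyStructure.NPerm
  Cfsg.Agent.ChevalleyStructure.CoxeterGeomTypes Cfsg.Agent.Nodes.RGDChev Cfsg.Agent.KFacts.RgdChevCoord
open Cfsg.Agent.Nodes.RGDTwGen Cfsg.Agent.Nodes.RGDFold Cfsg.Agent.Nodes.RGDTwE6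
open Cfsg.Agent.Nodes.RGDFoldSL (Fx mem_Fx)
open Cfsg.Agent.FixBN.FieldRGD (uu vv dd ww)
open Cfsg.Agent.H162.GaussExcMain (r6 rt6 exists_hom_D w6)
open Cfsg.Agent.H78.Pw (All Pr Pw)
open scoped MatrixGroups

universe u

/-- products of two good elements -/
def PPn (n : ℕ) (F : Type*) [Field F] (N : ℕ) : Prop :=
  ∀ L ∈ LT n F, ∀ U ∈ UT n F, ∃ X Y : Matrix.SpecialLinearGroup (Fin n) F, L * U = X * Y ∧ Sp N X ∧ Sp N Y

/-- **Orders prime to `6`.** -/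
theorem all6_of {K : Type u} [Field K] [Fintype K] {q : ℕ} (hq : IsPrimePow q) (hK : Fintype.card K = q ^ 2) {N M : ℕ}
    (hNM : N.Coprime M) (hN : N.Coprime 6) (hM : M.Coprime 6)
    (h3 : ∀ φ : K →+* K, (∀ t, φ t = t ^ q) → PPn 3 (Fx φ 1) N) (h2 : PPn 2 K M) : All 6 ↥(twistedE6 K q) := by
  obtain ⟨φ, hφ, hqq⟩ := TwE6Basic.exists_frob hq hK
  obtain ⟨p, hpc⟩ := CharP.exists K
  have : Fact p.Prime := ⟨(CharP.char_is_prime_or_zero K p).resolve_right (CharP.char_ne_zero_of_finite K p)⟩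
  have := finite_tw K q
  have R := RGDTwE6.rgd CoxeterMatrix.F₄.toCoxeterSystem hφ hqq p
  have : Finite CoxeterMatrix.F₄.Group := Cfsg.Agent.Nodes.RGDFold.finite_W (hp := RGDTwE6.hp)
    CoxeterMatrix.F₄.toCoxeterSystem RGDTwE6.isCartan RGDTwE6.foldData
  have hS := Cfsg.Agent.S1070.result hq hK
  have := hS.1
  obtain ⟨P, hP⟩ := exists_hom_D RGDTwE6.hp (K := K) (ε := 1) (by norm_num) rt6.1 rt6.2.1 rt6.2.2.1 rt6.2.2.2
  obtain ⟨f, hf⟩ := exists_f hφ hqq hP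
  obtain ⟨ψ, hψ⟩ := exists_psi hφ hqq
  have hc := f_psi hψ hP hf
  -- fixed points
  have hnf : ∀ {X : Matrix.SpecialLinearGroup (Fin 3) (Fx φ 1)} {x : SL(2, K)}, Sp N X → Sp M x →
      NF (VJ CoxeterMatrix.F₄.toCoxeterSystem RGDTwE6.isCartan (RGDTwE6.X φ q) J3R) (f X * ψ x) ∧
        NF (VNJ CoxeterMatrix.F₄.toCoxeterSystem RGDTwE6.isCartan (RGDTwE6.X φ q) J3R) (f X * ψ x) := by
    intro X x hX hx
    obtain ⟨g1, g2⟩ := nf3 hP hNM (hX.map (Fx φ 1).subtype) hx (hx.map φ)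
    have e : inc K q (f X * ψ x) = P (Matrix.SpecialLinearGroup.map (Fx φ 1).subtype X) *
        (sl RGDTwE6.hp (0 : Fin 6) x * sl RGDTwE6.hp (5 : Fin 6) (Matrix.SpecialLinearGroup.map φ x)) := by
      rw [map_mul, hf, hψ]
    rw [← e] at g1 g2
    exact ⟨NF.of_hom _ (inc_injective q) (VJ3_le _ φ q) g1, NF.of_hom _ (inc_injective q) (VNJ3_le _ φ q) g2⟩
  have hord : ∀ {X : Matrix.SpecialLinearGroup (Fin 3) (Fx φ 1)} {x : SL(2, K)}, Sp N X → Sp M x →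
      ∀ y, (orderOf (y * (f X * ψ x) * y⁻¹)).Coprime 6 := by
    intro X x hX hx y
    have h1 : (y * (f X * ψ x) * y⁻¹) ^ (N * M) = 1 := by
      have h4 : Commute (f X) (ψ x) := hc X x
      rw [conj_pow, h4.mul_pow, pow_mul, ← map_pow, hX.pow, map_one, one_pow, mul_comm N M, pow_mul, ← map_pow, hx.pow,
        map_one, one_pow, mul_one, mul_one, mul_inv_cancel]
    exact Nat.Coprime.of_dvd_left (orderOf_dvd_of_pow_eq_one h1) (Nat.Coprime.mul_left hN hM)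
  have hb : ∀ v ∈ UNJ CoxeterMatrix.F₄.toCoxeterSystem RGDTwE6.isCartan (RGDTwE6.X φ q) J3R,
      ∀ u ∈ UJ CoxeterMatrix.F₄.toCoxeterSystem RGDTwE6.isCartan (RGDTwE6.X φ q) J3R, ∃ c₁ c₂, v * u = c₁ * c₂ ∧
        LP CoxeterMatrix.F₄.toCoxeterSystem RGDTwE6.isCartan (T K q) (RGDTwE6.X φ q) J3R c₁ c₂ ∧
        ((∀ y, (orderOf (y * c₁ * y⁻¹)).Coprime 6) ∧ ∀ y, (orderOf (y * c₂ * y⁻¹)).Coprime 6) := by
    intro v hv u hu
    obtain ⟨L, hL, L', hL', rfl⟩ := UNJ3 hφ hqq hψ hP hf _ hv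
    obtain ⟨U, hU, U', hU', rfl⟩ := UJ3 hφ hqq hψ hP hf _ hu
    obtain ⟨X, Y, e1, hX, hY⟩ := h3 φ hφ L hL U hU
    obtain ⟨x, y, e2, hx, hy⟩ := h2 L' hL' U' hU'
    refine ⟨f X * ψ x, f Y * ψ y, ?_, ⟨mul_mem (f_LJ3 hφ hqq hψ hP hf _ X) (psi_LJ hφ hqq hψ _ x),
      mul_mem (f_LJ3 hφ hqq hψ hP hf _ Y) (psi_LJ hφ hqq hψ _ y), (hnf hX hx).2, (hnf hY hy).1⟩, hord hX hx, hord hY hy⟩
    calc f L * ψ L' * (f U * ψ U') = f L * (ψ L' * f U) * ψ U' := by group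
      _ = f (L * U) * ψ (L' * U') := by rw [← hc, map_mul, map_mul]; group
      _ = f X * (f Y * ψ x) * ψ y := by rw [e1, e2, map_mul, map_mul]; group
      _ = _ := by rw [hc]; group
  intro g
  by_cases hg : g = 1
  · rw [hg]
    exact Pr.one 6
  · obtain ⟨c₁, c₂, x, y, ⟨e1, e2⟩, e3⟩ := pair R (RGDTwE6.G1_eq_top CoxeterMatrix.F₄.toCoxeterSystem hφ hqq)
      (Cfsg.Agent.H958.TS.TwCommon.coordP hφ hqq) (Cfsg.Agent.Nodes.ChevChart.irr_of Cfsg.Agent.Nodes.ChevChart.irrF)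
      (Pr := fun c₁ c₂ => (∀ y, (orderOf (y * c₁ * y⁻¹)).Coprime 6) ∧ ∀ y, (orderOf (y * c₂ * y⁻¹)).Coprime 6) hb
      (Cfsg.Agent.H928.War.Rgd.core_trivial R hg)
    exact ⟨x * c₁ * x⁻¹, y * c₂ * y⁻¹, e3, e1 x, e2 y⟩

/-- two `p`-elements, two semisimple elements -/
theorem pw_of {K : Type u} [Field K] [Fintype K] {q : ℕ} (hq : IsPrimePow q) (hK : Fintype.card K = q ^ 2)
    (h6 : 2 ∣ q ∨ 3 ∣ q → All 6 ↥(twistedE6 K q)) : Pw ↥(twistedE6 K q) := by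
  obtain ⟨r, hrc⟩ := CharP.exists K
  have hr : r.Prime := (CharP.char_is_prime_or_zero K r).resolve_right (CharP.char_ne_zero_of_finite K r)
  have : Fact r.Prime := ⟨hr⟩
  have hpp := pp (p := r) hq hK
  have hU : ∀ n : ℕ, r.Coprime n → All n ↥(twistedE6 K q) := fun n hn => All.of_two_pgroup hn fun g => hpp g
  constructor
  · by_cases h5 : 5 ≤ r
    · refine hU 6 ?_
      rw [show 6 = 2 * 3 by norm_num]
      exact Nat.Coprime.mul_right ((Nat.coprime_primes hr Nat.prime_two).2 (by omega))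
        ((Nat.coprime_primes hr Nat.prime_three).2 (by omega))
    · have h2 := hr.two_le
      have hrq : r ∣ q := by
        have h1 : r ∣ Fintype.card K := by
          obtain ⟨n, -, hn⟩ := FiniteField.card K r
          rw [hn]
          exact dvd_pow_self r n.ne_zero
        rw [hK] at h1
        exact hr.dvd_of_dvd_pow h1
      apply h6
      have h4 : r = 2 ∨ r = 3 ∨ r = 4 := by omega
      rcases h4 with rfl | rfl | rfl
      · exact Or.inl hrq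
      · exact Or.inr hrq
      · exact absurd hr (by norm_num)
  · intro p hp h5
    by_cases hpr : p = r
    · subst hpr
      intro g
      obtain ⟨x, y, e, hx, hy⟩ := Cfsg.Agent.H928.War.TwOne.ss_one (p := p) hq hK g
      exact ⟨x, y, by rw [e, pow_one, pow_one], hx, hy⟩
    · exact hU p ((Nat.coprime_primes hr hp).2 (fun h => hpr h.symm))

end Cfsg.Agent.H928.Pw.TwSix
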